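import Groth.Agent.ShriekProj.Fibre
import Groth.Agent.Shriek.LqfExact
import Groth.Agent.EtFound.PullGerm
import Mathlib.LinearAlgebra.DirectSum.TensorProduct

/-! projection formula for direct images with proper support -/

set_option autoImplicit false

universe u

open CategoryTheory CategoryTheory.Limits AlgebraicGeometry Opposite
open scoped TensorProduct DirectSum

noncomputable section

set_option backward.isDefEq.respectTransparency false
set_option backward.isDefEq.respectTransparency.types false

namespace Groth.Agent.ShriekProj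

open Groth.Agent.Shriek Groth.Agent.EtFound

variable {X Y : Scheme.{u}} (f : X ⟶ Y) [LocallyOfFiniteType f] (F : EtCoh.Ab X) (G : EtCoh.Ab Y)

/-- the pulled back factor -/
abbrev pG : EtCoh.Ab X := (EtCoh.pull f).obj G

/-- the inverse image of a section -/
abbrev pullS {V : Y.Etale} (t : EtCoh.sect G V) : EtCoh.sect (pG f G) ((EtCoh.bc f).obj V) :=
  ((EtCoh.pullPushAdj f).unit.app G).hom.app (op V) t

/-- the tensor product upstairs -/
abbrev upT : EtCoh.Ab X := (EtTens.tensorBi.obj F).obj (pG f G)

/-- the tensor product of presheaves downstairs -/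
abbrev downP : Y.Etaleᵒᵖ ⥤ AddCommGrpCat.{u + 1} := EtTens.tensorObj ((shriek f).obj F).obj G.obj

/-- sheafification upstairs -/
abbrev toUpT : EtTens.tensorObj F.obj (pG f G).obj ⟶ (upT f F G).obj :=
  toSheafify X.smallEtaleTopology (EtTens.tensorObj F.obj (pG f G).obj)

/-- tensoring a section with the inverse image of a section -/
def tmulSect (V : Y.Etale) (s : EtCoh.sect F ((EtCoh.bc f).obj V)) (t : EtCoh.sect G V) :
    EtCoh.sect (upT f F G) ((EtCoh.bc f).obj V) :=
  (toUpT f F G).app (op ((EtCoh.bc f).obj V)) (s ⊗ₜ[ℤ] (show (pG f G).obj.obj (op ((EtCoh.bc f).obj V)) from pullS f G t))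

theorem sectSupp_tmul (V : Y.Etale) (s : EtCoh.sect F ((EtCoh.bc f).obj V)) (t : EtCoh.sect G V) :
    EtShriek.sectSupp (upT f F G) _ (tmulSect f F G V s t) ⊆ EtShriek.sectSupp F _ s := by
  intro x hx W g hw h0
  refine hx W g hw ?_
  refine (NatTrans.naturality_apply (toUpT f F G) g.op _).symm.trans ?_
  rw [EtTens.tensorObj_map_tmul, h0, TensorProduct.zero_tmul, map_zero]

theorem tmulSect_mem (V : Y.Etale) (s : EtShriek.shriekSubgroup f F V) (t : EtCoh.sect G V) :
    tmulSect f F G V s.1 t ∈ EtShriek.shriekSubgroup f (upT f F G) V :=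
  (mem_shriekSubgroup_iff _ f _).2 (QCoh.IsProperOver.subset ((mem_shriekSubgroup_iff F f _).1 s.2)
    (isClosed_sectSupp _ _) (sectSupp_tmul f F G V s.1 t))

/-- the pairing on sections -/
def projBil (V : Y.Etale) :
    EtShriek.shriekSubgroup f F V →+ (EtCoh.sect G V →+ EtShriek.shriekSubgroup f (upT f F G) V) :=
  AddMonoidHom.mk' (fun s => AddMonoidHom.mk' (fun t => ⟨tmulSect f F G V s.1 t, tmulSect_mem f F G V s t⟩)
    fun t t' => Subtype.ext (by
      show tmulSect f F G V s.1 (t + t') = tmulSect f F G V s.1 t + tmulSect f F G V s.1 t'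
      simp only [tmulSect, pullS, map_add, TensorProduct.tmul_add]))
    fun s s' => AddMonoidHom.ext fun t => Subtype.ext (by
      show tmulSect f F G V (s.1 + s'.1) t = tmulSect f F G V s.1 t + tmulSect f F G V s'.1 t
      simp only [tmulSect, TensorProduct.add_tmul, map_add])

/-- the projection map on presheaves -/
def projPre : downP f F G ⟶ ((shriek f).obj (upT f F G)).obj where
  app V := AddCommGrpCat.ofHom (TensorProduct.liftAddHom (projBil f F G V.unop) fun r s t => by
    show projBil f F G V.unop (r • s) t = projBil f F G V.unop s (r • t)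
    rw [map_zsmul, map_zsmul, AddMonoidHom.smul_apply])
  naturality {V V'} φ := EtTens.hom_ext_tmul (M := ((shriek f).obj F).obj.obj V) (N := G.obj.obj V)
    fun s t => Subtype.ext (by
      refine Eq.trans ?_ (NatTrans.naturality_apply (toUpT f F G) ((EtCoh.bc f).map φ.unop).op _)
      show tmulSect f F G V'.unop (((shriek f).obj F).obj.map φ s).1 (G.obj.map φ t) = _
      refine congrArg ((toUpT f F G).app (op ((EtCoh.bc f).obj V'.unop))) ?_
      rw [EtTens.tensorObj_map_tmul]
      exact congrArg (_ ⊗ₜ[ℤ] ·) (NatTrans.naturality_apply ((EtCoh.pullPushAdj f).unit.app G).hom φ t))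

/-- the projection map -/
def projMap : (EtTens.tensorBi.obj ((shriek f).obj F)).obj G ⟶ (shriek f).obj (upT f F G) :=
  ⟨sheafifyLift Y.smallEtaleTopology (projPre f F G) ((shriek f).obj (upT f F G)).property⟩

variable [IsSeparated f] [LocallyQuasiFinite f] {Ω : Type u} [Field Ω] [IsAlgClosed Ω]
  (η : Spec (CommRingCat.of Ω) ⟶ Y)

/-- stalks of the pullback, additively -/
def pullEquiv (z : PtsOver f η) :
    (EtCoh.stalk η).obj G ≃+ (EtCoh.stalk z.1).obj (pG f G) := by
  obtain ⟨z, hz⟩ := z
  subst hz
  exact ((sheafFiberPullIso (A := AddCommGrpCat.{u + 1}) f z).app G).symm.addCommGroupIsoToAddEquiv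

theorem pullEquiv_germ (z : PtsOver f η) (V : Y.Etale) (v : (Scheme.pointSmallEtale η).fiber.obj V)
    (t : EtCoh.sect G V) :
    pullEquiv f G η z ((Scheme.pointSmallEtale η).toPresheafFiber V v G.obj t) =
      (Scheme.pointSmallEtale z.1).toPresheafFiber _ (bcPt f η z V v) (pG f G).obj (pullS f G t) := by
  obtain ⟨z, hz⟩ := z
  subst hz
  have h0 := sheafFiberPullIso_germ (A := AddCommGrpCat.{u + 1}) f z G V (bcPt f _ ⟨z, rfl⟩ V v)
  have hv : bcFiberEquiv f z V (bcPt f _ ⟨z, rfl⟩ V v) = v :=
    CategoryTheory.Over.OverMorphism.ext (pullback.lift_fst _ _ _)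
  rw [hv] at h0
  exact ConcreteCategory.congr_hom h0 t

/-- stalks of the tensor product upstairs -/
def upEquiv (z : PtsOver f η) :
    (EtCoh.stalk z.1).obj (upT f F G) ≃+ ((EtCoh.stalk z.1).obj F ⊗[ℤ] (EtCoh.stalk η).obj G) :=
  (AddEquiv.ofBijective ((Scheme.pointSmallEtale z.1).presheafFiber.map (toUpT f F G)).hom
      ((Scheme.pointSmallEtale z.1).toPresheafFiber_map_bijective (toUpT f F G))).symm.trans
    ((tensorEquiv (Scheme.pointSmallEtale z.1) F.obj (pG f G).obj).trans
      (TensorProduct.congr (LinearEquiv.refl ℤ _) (pullEquiv f G η z).symm.toIntLinearEquiv).toAddEquiv)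

theorem upEquiv_germ (z : PtsOver f η) (V : Y.Etale) (v : (Scheme.pointSmallEtale η).fiber.obj V)
    (s : EtCoh.sect F ((EtCoh.bc f).obj V)) (t : EtCoh.sect G V) :
    upEquiv f F G η z ((Scheme.pointSmallEtale z.1).toPresheafFiber _ (bcPt f η z V v) (upT f F G).obj
        (tmulSect f F G V s t)) =
      (Scheme.pointSmallEtale z.1).toPresheafFiber _ (bcPt f η z V v) F.obj s ⊗ₜ[ℤ]
        (Scheme.pointSmallEtale η).toPresheafFiber V v G.obj t := by
  let Φ := Scheme.pointSmallEtale z.1
  let b := bcPt f η z V v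
  have hg : Φ.toPresheafFiber _ b (pG f G).obj (pullS f G t) =
      pullEquiv f G η z ((Scheme.pointSmallEtale η).toPresheafFiber V v G.obj t) :=
    (pullEquiv_germ f G η z V v t).symm
  have h1 : (AddEquiv.ofBijective (Φ.presheafFiber.map (toUpT f F G)).hom
      (Φ.toPresheafFiber_map_bijective (toUpT f F G))).symm
      (Φ.toPresheafFiber _ b (upT f F G).obj (tmulSect f F G V s t)) =
      tGerm Φ F.obj (pG f G).obj b s (pullS f G t) := by
    rw [AddEquiv.symm_apply_eq]
    exact (ConcreteCategory.congr_hom (Φ.toPresheafFiber_naturality (toUpT f F G) _ b) _).symm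
  simp only [upEquiv, AddEquiv.trans_apply]
  refine (congrArg (fun a => (TensorProduct.congr (LinearEquiv.refl ℤ _) (pullEquiv f G η z).symm.toIntLinearEquiv).toAddEquiv
    (tensorEquiv Φ F.obj (pG f G).obj a)) h1).trans ?_
  rw [tensorEquiv_germ, hg]
  simp
  rfl

/-- stalks of the tensor product downstairs, as sums over the fibre -/
def downEquiv [DecidableEq (PtsOver f η)] :
    fibre (Scheme.pointSmallEtale η) (downP f F G) ≃+
      (⨁ z : PtsOver f η, (EtCoh.stalk z.1).obj F ⊗[ℤ] (EtCoh.stalk η).obj G) :=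
  (tensorEquiv (Scheme.pointSmallEtale η) ((shriek f).obj F).obj G.obj).trans
    ((TensorProduct.congr (stalkEquiv f η F).toIntLinearEquiv (LinearEquiv.refl ℤ _)).trans
      (TensorProduct.directSumLeft ℤ ℤ (fun z : PtsOver f η => (EtCoh.stalk z.1).obj F) ((EtCoh.stalk η).obj G))).toAddEquiv

theorem downEquiv_germ [DecidableEq (PtsOver f η)] (z : PtsOver f η) (V : Y.Etale)
    (v : (Scheme.pointSmallEtale η).fiber.obj V) (s : EtShriek.shriekSubgroup f F V) (t : EtCoh.sect G V) :
    downEquiv f F G η (tGerm (Scheme.pointSmallEtale η) ((shriek f).obj F).obj G.obj v s t) z =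
      (Scheme.pointSmallEtale z.1).toPresheafFiber _ (bcPt f η z V v) F.obj s.1 ⊗ₜ[ℤ]
        (Scheme.pointSmallEtale η).toPresheafFiber V v G.obj t := by
  simp only [downEquiv, AddEquiv.trans_apply]
  rw [tensorEquiv_germ]
  refine (TensorProduct.directSumLeft_tmul _ _ _ _ z).trans ?_
  exact congrArg (· ⊗ₜ[ℤ] _) ((stalkEquiv_apply f η F _ z).trans (evalAt_germ f η F z V v s))

theorem evalAt_projPre [DecidableEq (PtsOver f η)] (z : PtsOver f η)
    (d : fibre (Scheme.pointSmallEtale η) (downP f F G)) :
    upEquiv f F G η z (evalAt f η (upT f F G) z ((Scheme.pointSmallEtale η).presheafFiber.map (projPre f F G) d)) =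
      downEquiv f F G η d z := by
  obtain ⟨V, v, d, rfl⟩ := (Scheme.pointSmallEtale η).toPresheafFiber_jointly_surjective d
  induction d using TensorProduct.induction_on with
  | zero => simp
  | tmul s t =>
    rw [(Scheme.pointSmallEtale η).toPresheafFiber_naturality_apply (projPre f F G) V v]
    refine Eq.trans ?_ (downEquiv_germ f F G η z V v s t).symm
    refine Eq.trans (congrArg (upEquiv f F G η z) (evalAt_germ f η (upT f F G) z V v _)) ?_
    exact upEquiv_germ f F G η z V v s.1 t
  | add a b ha hb => simp only [map_add, DirectSum.add_apply, ha, hb]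

theorem bijective_fibre_projPre :
    Function.Bijective ((Scheme.pointSmallEtale η).presheafFiber.map (projPre f F G)) := by
  classical
  refine ⟨(injective_iff_map_eq_zero _).2 fun d hd => (downEquiv f F G η).map_eq_zero_iff.1 ?_, fun r => ?_⟩
  · refine DFinsupp.ext fun z => ?_
    rw [← evalAt_projPre f F G η z d, hd, map_zero, map_zero]
    rfl
  · let w : ⨁ z : PtsOver f η, (EtCoh.stalk z.1).obj F ⊗[ℤ] (EtCoh.stalk η).obj G :=
      DFinsupp.mapRange (fun z => upEquiv f F G η z) (fun z => map_zero _) (stalkEquiv f η (upT f F G) r)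
    refine ⟨(downEquiv f F G η).symm w, (stalkEquiv f η (upT f F G)).injective (DFinsupp.ext fun z => ?_)⟩
    apply (upEquiv f F G η z).injective
    rw [stalkEquiv_apply, evalAt_projPre, AddEquiv.apply_symm_apply]
    exact DFinsupp.mapRange_apply ..

omit [IsAlgClosed Ω] η [Field Ω] in
theorem nonempty_projection_formula :
    Nonempty ((EtTens.tensorBi.obj ((EtShriek.lowerShriek f).obj F)).obj G ≅
      (EtShriek.lowerShriek f).obj ((EtTens.tensorBi.obj F).obj ((EtCoh.pull f).obj G))) := by
  haveI : IsIso (projMap f F G) := EtFound.isIso_of_stalks _ fun K _ _ ξ => by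
    refine bijective_stalk_of_alg ξ (projMap f F G) ?_
    let Φ := Scheme.pointSmallEtale (algPt ξ)
    have h := bijective_fibre_projPre f F G (algPt ξ)
    rw [← toSheafify_sheafifyLift Y.smallEtaleTopology (projPre f F G) ((shriek f).obj (upT f F G)).property,
      Functor.map_comp] at h
    exact (Function.Bijective.of_comp_iff _
      (Φ.toPresheafFiber_map_bijective (toSheafify Y.smallEtaleTopology (downP f F G)))).1 h
  exact ⟨(EtTens.tensorBi.mapIso ((shriekIso f).app F)).app G ≪≫ asIso (projMap f F G) ≪≫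
    ((shriekIso f).app _).symm⟩

end Groth.Agent.ShriekProj
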