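import Groth.Prelude.Def_EtTens2
import Mathlib.CategoryTheory.Sites.Point.Basic
import Mathlib.Algebra.Category.Grp.FilteredColimits

/-! fibres of pointwise tensor products of abelian presheaves -/

universe w v u

open CategoryTheory CategoryTheory.Limits Opposite
open scoped TensorProduct

noncomputable section

set_option backward.isDefEq.respectTransparency false
set_option quotPrecheck false
set_option backward.isDefEq.respectTransparency.types false

namespace Groth.Agent.ShriekProj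

variable {C : Type u} [Category.{v} C] {J : GrothendieckTopology C} (Φ : GrothendieckTopology.Point.{w} J)
  [LocallySmall.{w} C] [HasColimitsOfSize.{w, w} AddCommGrpCat.{u}]
  [PreservesFilteredColimitsOfSize.{w, w} (forget AddCommGrpCat.{u})]
  (P Q : Cᵒᵖ ⥤ AddCommGrpCat.{u})

local notation "germ" => GrothendieckTopology.Point.toPresheafFiber Φ

/-- the fibre of a presheaf -/
abbrev fibre (R : Cᵒᵖ ⥤ AddCommGrpCat.{u}) : AddCommGrpCat.{u} := Φ.presheafFiber.obj R

theorem exists_above {X Y : C} (x : Φ.fiber.obj X) (y : Φ.fiber.obj Y) :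
    ∃ (Z : C) (z : Φ.fiber.obj Z) (a : Z ⟶ X) (b : Z ⟶ Y), Φ.fiber.map a z = x ∧ Φ.fiber.map b z = y := by
  let p : Φ.fiber.Elements := ⟨X, x⟩
  let q : Φ.fiber.Elements := ⟨Y, y⟩
  exact ⟨(IsCofiltered.min p q).1, (IsCofiltered.min p q).2, (IsCofiltered.minToLeft p q).1,
    (IsCofiltered.minToRight p q).1, (IsCofiltered.minToLeft p q).2, (IsCofiltered.minToRight p q).2⟩

omit [LocallySmall.{w} C] [PreservesFilteredColimitsOfSize.{w, w} (forget AddCommGrpCat.{u})] in
theorem germ_map {X Y : C} (a : X ⟶ Y) (x : Φ.fiber.obj X) (R : Cᵒᵖ ⥤ AddCommGrpCat.{u}) (s : R.obj (op Y)) :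
    germ X x R (R.map a.op s) = germ Y (Φ.fiber.map a x) R s :=
  ConcreteCategory.congr_hom (Φ.toPresheafFiber_w a x R) s

/-- the class of a pure tensor -/
abbrev tGerm {X : C} (x : Φ.fiber.obj X) (s : P.obj (op X)) (t : Q.obj (op X)) : fibre Φ (EtTens.tensorObj P Q) :=
  germ X x (EtTens.tensorObj P Q) (s ⊗ₜ[ℤ] t)

omit [LocallySmall.{w} C] [PreservesFilteredColimitsOfSize.{w, w} (forget AddCommGrpCat.{u})] in
theorem tGerm_map {X Y : C} (a : X ⟶ Y) (x : Φ.fiber.obj X) (s : P.obj (op Y)) (t : Q.obj (op Y)) :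
    tGerm Φ P Q x (P.map a.op s) (Q.map a.op t) = tGerm Φ P Q (Φ.fiber.map a x) s t :=
  germ_map Φ a x (EtTens.tensorObj P Q) (s ⊗ₜ[ℤ] t)

theorem tGerm_congr {X Y : C} (x : Φ.fiber.obj X) (y : Φ.fiber.obj Y) (s : P.obj (op X)) (t : Q.obj (op X))
    (s' : P.obj (op Y)) (t' : Q.obj (op Y)) (hs : germ X x P s = germ Y y P s')
    (ht : germ X x Q t = germ Y y Q t') : tGerm Φ P Q x s t = tGerm Φ P Q y s' t' := by
  obtain ⟨Z, z, a, b, rfl, rfl⟩ := exists_above Φ x y
  rw [← germ_map, ← germ_map] at hs ht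
  obtain ⟨Z₁, f₁, z₁, hz₁, h₁⟩ := (Φ.toPresheafFiber_eq_iff' Z z _ _).1 hs
  obtain ⟨Z₂, f₂, z₂, hz₂, h₂⟩ := (Φ.toPresheafFiber_eq_iff' Z z _ _).1 ht
  let e₁ : Φ.fiber.elementsMk Z₁ z₁ ⟶ Φ.fiber.elementsMk Z z := CategoryOfElements.homMk _ _ f₁ hz₁
  let e₂ : Φ.fiber.elementsMk Z₂ z₂ ⟶ Φ.fiber.elementsMk Z z := CategoryOfElements.homMk _ _ f₂ hz₂
  obtain ⟨W, g₁, g₂, he⟩ := IsCofiltered.cospan e₁ e₂
  have hp : P.map (g₁.1 ≫ f₁).op (P.map a.op s) = P.map (g₁.1 ≫ f₁).op (P.map b.op s') := by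
    simp only [op_comp, Functor.map_comp, ConcreteCategory.comp_apply] at h₁ ⊢
    exact congrArg _ h₁
  have hq : Q.map (g₁.1 ≫ f₁).op (Q.map a.op t) = Q.map (g₁.1 ≫ f₁).op (Q.map b.op t') := by
    rw [show g₁.1 ≫ f₁ = g₂.1 ≫ f₂ from congrArg Subtype.val he]
    simp only [op_comp, Functor.map_comp, ConcreteCategory.comp_apply] at h₂ ⊢
    exact congrArg _ h₂
  rw [← tGerm_map Φ P Q a z, ← tGerm_map Φ P Q b z, show z = Φ.fiber.map (g₁.1 ≫ f₁) W.2 from (g₁ ≫ e₁).2.symm,
    ← tGerm_map Φ P Q (g₁.1 ≫ f₁) W.2, ← tGerm_map Φ P Q (g₁.1 ≫ f₁) W.2, hp, hq]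

theorem exists_common (a : fibre Φ P) (b : fibre Φ Q) :
    ∃ (X : C) (x : Φ.fiber.obj X) (s : P.obj (op X)) (t : Q.obj (op X)),
      germ X x P s = a ∧ germ X x Q t = b := by
  obtain ⟨X, x, s, rfl⟩ := Φ.toPresheafFiber_jointly_surjective a
  obtain ⟨Y, y, t, rfl⟩ := Φ.toPresheafFiber_jointly_surjective b
  obtain ⟨Z, z, f, g, rfl, rfl⟩ := exists_above Φ x y
  exact ⟨Z, z, P.map f.op s, Q.map g.op t, germ_map Φ f z P s, germ_map Φ g z Q t⟩

/-- pairing of germs -/
def pairing (a : fibre Φ P) (b : fibre Φ Q) : fibre Φ (EtTens.tensorObj P Q) :=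
  tGerm Φ P Q (exists_common Φ P Q a b).choose_spec.choose
    (exists_common Φ P Q a b).choose_spec.choose_spec.choose
    (exists_common Φ P Q a b).choose_spec.choose_spec.choose_spec.choose

theorem pairing_germ {X : C} (x : Φ.fiber.obj X) (s : P.obj (op X)) (t : Q.obj (op X)) :
    pairing Φ P Q (germ X x P s) (germ X x Q t) = tGerm Φ P Q x s t :=
  tGerm_congr Φ P Q _ x _ _ s t
    (exists_common Φ P Q (germ X x P s) (germ X x Q t)).choose_spec.choose_spec.choose_spec.choose_spec.1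
    (exists_common Φ P Q (germ X x P s) (germ X x Q t)).choose_spec.choose_spec.choose_spec.choose_spec.2

theorem pairing_add_left (a a' : fibre Φ P) (b : fibre Φ Q) :
    pairing Φ P Q (a + a') b = pairing Φ P Q a b + pairing Φ P Q a' b := by
  obtain ⟨X, x, s, t, rfl, rfl⟩ := exists_common Φ P Q a b
  obtain ⟨Y, y, s', rfl⟩ := Φ.toPresheafFiber_jointly_surjective a'
  obtain ⟨Z, z, f, g, rfl, rfl⟩ := exists_above Φ x y
  rw [← germ_map Φ f z P, ← germ_map Φ g z P, ← germ_map Φ f z Q, ← map_add, pairing_germ, pairing_germ, pairing_germ]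
  rw [tGerm, TensorProduct.add_tmul, map_add]

theorem pairing_add_right (a : fibre Φ P) (b b' : fibre Φ Q) :
    pairing Φ P Q a (b + b') = pairing Φ P Q a b + pairing Φ P Q a b' := by
  obtain ⟨X, x, s, t, rfl, rfl⟩ := exists_common Φ P Q a b
  obtain ⟨Y, y, t', rfl⟩ := Φ.toPresheafFiber_jointly_surjective b'
  obtain ⟨Z, z, f, g, rfl, rfl⟩ := exists_above Φ x y
  rw [← germ_map Φ f z Q, ← germ_map Φ g z Q, ← germ_map Φ f z P, ← map_add, pairing_germ, pairing_germ, pairing_germ]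
  rw [tGerm, TensorProduct.tmul_add, map_add]

/-- from the tensor product of the fibres -/
def fromTensor : (fibre Φ P ⊗[ℤ] fibre Φ Q) →+ fibre Φ (EtTens.tensorObj P Q) :=
  TensorProduct.liftAddHom
    (AddMonoidHom.mk' (fun a => AddMonoidHom.mk' (pairing Φ P Q a) (pairing_add_right Φ P Q a))
      fun a a' => AddMonoidHom.ext (pairing_add_left Φ P Q a a'))
    fun r a b => by
      show pairing Φ P Q (r • a) b = pairing Φ P Q a (r • b)
      exact (map_zsmul (AddMonoidHom.mk' (fun a => pairing Φ P Q a b) fun a a' => pairing_add_left Φ P Q a a' b) r a).trans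
        (map_zsmul (AddMonoidHom.mk' (pairing Φ P Q a) (pairing_add_right Φ P Q a)) r b).symm

/-- to the tensor product of the fibres -/
def toTensor : fibre Φ (EtTens.tensorObj P Q) →+ (fibre Φ P ⊗[ℤ] fibre Φ Q) :=
  (Φ.presheafFiberDesc (P := EtTens.tensorObj P Q) (T := AddCommGrpCat.of (fibre Φ P ⊗[ℤ] fibre Φ Q))
    (fun X x => AddCommGrpCat.ofHom (TensorProduct.map (germ X x P).hom.toIntLinearMap
      (germ X x Q).hom.toIntLinearMap).toAddMonoidHom)
    (fun X Y f x => EtTens.hom_ext_tmul (M := P.obj (op Y)) (N := Q.obj (op Y)) fun m n => by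
      show (germ X x P (P.map f.op m)) ⊗ₜ[ℤ] (germ X x Q (Q.map f.op n)) = _ ⊗ₜ[ℤ] _
      rw [germ_map, germ_map]
      rfl)).hom

theorem toTensor_germ {X : C} (x : Φ.fiber.obj X) (s : P.obj (op X)) (t : Q.obj (op X)) :
    toTensor Φ P Q (tGerm Φ P Q x s t) = germ X x P s ⊗ₜ[ℤ] germ X x Q t :=
  ConcreteCategory.congr_hom (Φ.toPresheafFiber_presheafFiberDesc (P := EtTens.tensorObj P Q) _ _ X x) (s ⊗ₜ[ℤ] t)

/-- fibres of tensor products -/
def tensorEquiv : fibre Φ (EtTens.tensorObj P Q) ≃+ (fibre Φ P ⊗[ℤ] fibre Φ Q) where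
  toFun := toTensor Φ P Q
  invFun := fromTensor Φ P Q
  left_inv d := by
    obtain ⟨X, x, d, rfl⟩ := Φ.toPresheafFiber_jointly_surjective d
    induction d using TensorProduct.induction_on with
    | zero => rw [map_zero, map_zero, map_zero]
    | tmul s t => exact (congrArg (fromTensor Φ P Q) (toTensor_germ Φ P Q x s t)).trans (pairing_germ Φ P Q x s t)
    | add a b ha hb => rw [map_add, map_add, map_add, ha, hb]
  right_inv e := by
    induction e using TensorProduct.induction_on with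
    | zero => rw [map_zero, map_zero]
    | tmul a b =>
      obtain ⟨X, x, s, t, rfl, rfl⟩ := exists_common Φ P Q a b
      exact (congrArg (toTensor Φ P Q) (pairing_germ Φ P Q x s t)).trans (toTensor_germ Φ P Q x s t)
    | add a b ha hb => rw [map_add, map_add, ha, hb]
  map_add' := map_add _

theorem tensorEquiv_germ {X : C} (x : Φ.fiber.obj X) (s : P.obj (op X)) (t : Q.obj (op X)) :
    tensorEquiv Φ P Q (tGerm Φ P Q x s t) = germ X x P s ⊗ₜ[ℤ] germ X x Q t :=
  toTensor_germ Φ P Q x s t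

end Groth.Agent.ShriekProj
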